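import Mathlib

/-!
# S5156 piece S56-COP: a `p'`-automorphism of `P` fixing `Q` pointwise, moving every `x` by an element of `U`, is trivial
when the elements of `U ∩ P` centralizing `Q` lie in `Q` (pure group theory, no fusion systems).
RECIPE. Fix `x : P`, `z := (x:Ω)⁻¹ * α x ∈ U` (`hU`), `z ∈ P`. For `q ∈ Q`: `x q x⁻¹ ∈ Q` (`hQn`) is fixed by `α`
(`hfix`), and `α q = q`; apply `α` to `x q x⁻¹` (`map_mul`, `map_inv` in `↥P`, then `Subtype.val`): `α x * q * (α x)⁻¹ = x * q * x⁻¹`,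
hence `z * q = q * z`. So `z ∈ Q` (`hcen`) and `α ⟨z,_⟩ = ⟨z,_⟩`. By induction `(α ^ n) x = x * ⟨z,_⟩ ^ n` in `↥P`.
With `n := orderOf α`: `⟨z,_⟩ ^ n = 1`. `z ∈ S`, `hS : IsPGroup p ↥S` gives `z ^ (p ^ j) = 1` (apply `hS ⟨z,_⟩`), so
`orderOf z ∣ p ^ j` and `orderOf z ∣ n` with `n.Coprime p` => `orderOf z = 1` (`Nat.Coprime.eq_one_of_dvd`,
`Nat.Coprime.pow_right`), `z = 1`, `α x = x`. Conclude `MulEquiv.ext`. Aux names: prefix `s56cop_`.
-/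

set_option autoImplicit false

namespace Cfsg.Agent.Helper4.S56

theorem aut_eq_one_of_coprime {Ω : Type*} [Group Ω] {p : ℕ} [Fact p.Prime] {S P Q U : Subgroup Ω}
    (hS : IsPGroup p ↥S) (hPS : P ≤ S) (hQP : Q ≤ P)
    (hQn : ∀ x ∈ P, ∀ q ∈ Q, x * q * x⁻¹ ∈ Q)
    (hcen : ∀ z ∈ U, z ∈ P → (∀ q ∈ Q, z * q = q * z) → z ∈ Q)
    (α : MulAut ↥P) (hfix : ∀ x : ↥P, (x : Ω) ∈ Q → α x = x)
    (hU : ∀ x : ↥P, (x : Ω)⁻¹ * ((α x : ↥P) : Ω) ∈ U)
    (hord : (orderOf α).Coprime p) : α = 1 := by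
  have hfix' : ∀ (r : Ω) (hr : r ∈ Q), α ⟨r, hQP hr⟩ = ⟨r, hQP hr⟩ := fun r hr => hfix ⟨r, hQP hr⟩ hr
  -- `z = x⁻¹ α(x)` lies in `Q`
  have hz : ∀ x : P, ((x⁻¹ * α x : P) : Ω) ∈ Q := by
    intro x
    refine hcen _ ?_ (x⁻¹ * α x).2 ?_
    · have := hU x
      simpa [Subgroup.coe_mul, Subgroup.coe_inv] using this
    · intro r hr
      have hr' : (x : Ω) * r * (x : Ω)⁻¹ ∈ Q := hQn x x.2 r hr
      have h1 := hfix' _ hr'
      have e1 : (⟨(x : Ω) * r * (x : Ω)⁻¹, hQP hr'⟩ : P) = x * ⟨r, hQP hr⟩ * x⁻¹ := Subtype.ext rfl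
      rw [e1, map_mul, map_mul, map_inv, hfix' r hr] at h1
      have h2 := congrArg Subtype.val h1
      simp only [Subgroup.coe_mul, Subgroup.coe_inv] at h2
      simp only [Subgroup.coe_mul, Subgroup.coe_inv]
      calc (x : Ω)⁻¹ * ((α x : P) : Ω) * r
          = (x : Ω)⁻¹ * (((α x : P) : Ω) * r * ((α x : P) : Ω)⁻¹) * ((α x : P) : Ω) := by group
        _ = (x : Ω)⁻¹ * ((x : Ω) * r * (x : Ω)⁻¹) * ((α x : P) : Ω) := by rw [h2]
        _ = r * ((x : Ω)⁻¹ * ((α x : P) : Ω)) := by group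
  have hfixpow : ∀ (n : ℕ) (r : Ω) (hr : r ∈ Q), (α ^ n) ⟨r, hQP hr⟩ = ⟨r, hQP hr⟩ := by
    intro n
    induction n with
    | zero => intro r hr; rfl
    | succ n ih =>
      intro r hr
      rw [pow_succ, MulAut.mul_apply, hfix' r hr, ih r hr]
  have hpow : ∀ (n : ℕ) (x : P), (α ^ n) x = x * (x⁻¹ * α x) ^ n := by
    intro n
    induction n with
    | zero => intro x; simp
    | succ n ih =>
      intro x
      have e : α x = x * (x⁻¹ * α x) := by group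
      have hzz : (α ^ n) (x⁻¹ * α x) = x⁻¹ * α x := hfixpow n _ (hz x)
      calc (α ^ (n + 1)) x = (α ^ n) (α x) := by rw [pow_succ, MulAut.mul_apply]
        _ = (α ^ n) (x * (x⁻¹ * α x)) := by rw [← e]
        _ = (α ^ n) x * (α ^ n) (x⁻¹ * α x) := map_mul _ _ _
        _ = x * (x⁻¹ * α x) ^ n * (x⁻¹ * α x) := by rw [ih x, hzz]
        _ = x * (x⁻¹ * α x) ^ (n + 1) := by rw [pow_succ, mul_assoc]
  ext x
  rw [MulAut.one_apply]
  have h1 := hpow (orderOf α) x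
  rw [pow_orderOf_eq_one, MulAut.one_apply] at h1
  have h2 : (x⁻¹ * α x) ^ orderOf α = 1 := by
    have := mul_left_cancel (a := x) (b := 1) (c := (x⁻¹ * α x) ^ orderOf α) (by rw [mul_one]; exact h1)
    exact this.symm
  have hd1 : orderOf (x⁻¹ * α x) ∣ orderOf α := orderOf_dvd_of_pow_eq_one h2
  obtain ⟨j, hj⟩ := hS ⟨((x⁻¹ * α x : P) : Ω), hPS (x⁻¹ * α x).2⟩
  have h3 : (x⁻¹ * α x) ^ p ^ j = 1 := by
    apply Subtype.ext
    have h4 := congrArg Subtype.val hj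
    simpa using h4
  have hd2 : orderOf (x⁻¹ * α x) ∣ p ^ j := orderOf_dvd_of_pow_eq_one h3
  have hco : Nat.Coprime (orderOf (x⁻¹ * α x)) (p ^ j) :=
    Nat.Coprime.coprime_dvd_left hd1 (Nat.Coprime.pow_right j hord)
  have h5 : orderOf (x⁻¹ * α x) = 1 := Nat.Coprime.eq_one_of_dvd hco hd2
  have h6 : x⁻¹ * α x = 1 := orderOf_eq_one_iff.mp h5
  have h7 : α x = x := by
    calc α x = x * (x⁻¹ * α x) := by group
      _ = x := by rw [h6, mul_one]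
  exact congrArg Subtype.val h7

end Cfsg.Agent.Helper4.S56
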