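import Mathlib
import Cfsg.Agent.Lib.S56.S56Cop
import Cfsg.Agent.Lib.Helper25.Fusion
import Cfsg.Agent.Lib.Helper25.FusionHyp
import Cfsg.Agent.Lib.Helper25.FusionSolv
import Cfsg.Agent.Lib.Helper22.PResidual

/-!
# S5156 piece S56-APC: a `p'`-automorphism in `Aut_E(P)` fixing `Q` pointwise is trivial, when `Q ≤ P` is strongly closed and the
elements of `hyp(E)` centralizing `Q` lie in `Q`
Apply `aut_eq_one_of_coprime` (piece S56-COP) with `U := E.hyperfocalSubgroup p`.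
Aux names: prefix `s56apc_`.
-/

set_option autoImplicit false

namespace Cfsg.Agent.Helper4.S56

open Cfsg Cfsg.FusionSystem Cfsg.Agent.Helper25

variable {Ω : Type*} [Group Ω] {S : Subgroup Ω}

theorem fix_coprime_eq_one [Finite S] (p : ℕ) [Fact p.Prime] (hS : IsPGroup p S) (E : FusionSystem S)
    {Q P : Subgroup Ω} (hPS : P ≤ S) (hQP : Q ≤ P) (hQ : E.StronglyClosed Q)
    (hcen : ∀ z ∈ E.hyperfocalSubgroup p, (∀ q ∈ Q, z * q = q * z) → z ∈ Q)
    (α : MulAut ↥P) (hα : α ∈ E.autGroup P) (hfix : ∀ x : ↥P, (x : Ω) ∈ Q → α x = x)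
    (hord : (orderOf α).Coprime p) : α = 1 := by
  apply aut_eq_one_of_coprime (U := E.hyperfocalSubgroup p) hS hPS hQP ?_ ?_ α hfix ?_ hord
  · intro x hx q hq
    exact hQ.2 Q le_rfl _ (E.conj_mem hQ.1 (hPS hx)) ⟨q, hq⟩
  · intro z hzU _ hzc
    exact hcen z hzU hzc
  · intro x
    have hν : (⟨α, hα⟩ : ↥(E.autGroup P)) ∈ pResidual p ↥(E.autGroup P) := by
      apply Cfsg.Agent.Helper22.mem_pResidual_of_coprime
      rw [Subgroup.orderOf_mk]
      exact hord
    exact hyperfocal_gen_mem E p hPS ⟨α, hα⟩ hν x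

end Cfsg.Agent.Helper4.S56
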