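import Mathlib
import Cfsg.Agent.Lib.S56.S56APC
import Cfsg.Agent.Lib.Helper25.FusionNormal3

/-!
# S5156 piece S56-AP: in a radical `P ≥ Q`, an `E`-automorphism of `P` fixing `Q` pointwise is inner
(hypotheses as in S56-APC). RECIPE (MEDIUM-LONG). In `G := ↥(E.autGroup P)` let `A : Subgroup G` be the set of `a` with
`∀ x : ↥P, (x:Ω) ∈ Q → (a : MulAut ↥P) x = x` (a subgroup: one, mul, inv via `MulEquiv.symm_apply_apply`-style arguments).
`A` is normal: for `g : G`, `a ∈ A`, `x` with `(x:Ω) ∈ Q`: `g⁻¹ x` has value in `Q`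
(`Helper25.aut_mem_of_stronglyClosed E hQ hPS (Subgroup.inv_mem _ g.2) hx`, file `Lib/Helper25/FusionNormal3.lean`), so `a` fixes it and
`(g * a * g⁻¹) x = g (g⁻¹ x) = x` (`MulAut.mul_apply`, `MulAut.apply_inv_self`). `A` is a `p`-group: for `a ∈ A` write
`orderOf a = p ^ e * m`, `m.Coprime p` (`Nat.exists_eq_pow_mul_and_not_dvd`); `b := a ^ (p ^ e) ∈ A` has order `m`, so
`fix_coprime_eq_one` (S56-APC, by statement; `orderOf (b : MulAut ↥P) = orderOf b` by `Subgroup.orderOf_coe`) gives `b = 1`, hence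
`a ^ (p ^ e) = 1`. So `A ≤ pCore p G` (`le_sSup ⟨normal, pgroup⟩`, `pCore` in `Cfsg/Prelude/Def_Solvable.lean`), and
`hrad.2 : (pCore p G).map G.subtype = Inn ↥P` puts `α` in `Inn ↥P = (MulAut.conj).range`: `obtain ⟨y, hy⟩`.
Aux names: prefix `s56ap_`.
-/

set_option autoImplicit false

namespace Cfsg.Agent.Helper4.S56

open Cfsg Cfsg.FusionSystem Cfsg.Agent.Helper25

variable {Ω : Type*} [Group Ω] {S : Subgroup Ω}

theorem exists_inner_of_fix [Finite S] (p : ℕ) [Fact p.Prime] (hS : IsPGroup p S) (E : FusionSystem S)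
    {Q P : Subgroup Ω} (hQP : Q ≤ P) (hQ : E.StronglyClosed Q)
    (hcen : ∀ z ∈ E.hyperfocalSubgroup p, (∀ q ∈ Q, z * q = q * z) → z ∈ Q)
    (hrad : E.IsRadical p P)
    (α : MulAut ↥P) (hα : α ∈ E.autGroup P) (hfix : ∀ x : ↥P, (x : Ω) ∈ Q → α x = x) :
    ∃ y : ↥P, α = MulAut.conj y := by
  have hPS : P ≤ S := hrad.1
  have hPfin : Finite ↥P := finite_of_le_finite hPS
  have hAutFin : Finite (MulAut ↥P) :=
    Finite.of_injective (fun a : MulAut ↥P => (a : ↥P → ↥P)) DFunLike.coe_injective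
  -- the pointwise stabilizer of `Q`
  let A : Subgroup ↥(E.autGroup P) :=
    { carrier := {a | ∀ x : ↥P, (x : Ω) ∈ Q → (a : MulAut ↥P) x = x}
      one_mem' := fun x _ => rfl
      mul_mem' := by
        intro a b ha hb x hx
        show (a : MulAut ↥P) ((b : MulAut ↥P) x) = x
        rw [hb x hx, ha x hx]
      inv_mem' := by
        intro a ha x hx
        show ((a : MulAut ↥P)⁻¹) x = x
        have h1 := ha x hx
        calc ((a : MulAut ↥P)⁻¹) x = ((a : MulAut ↥P)⁻¹) ((a : MulAut ↥P) x) := by rw [h1]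
          _ = x := MulAut.inv_apply_self _ _ x }
  have hAmem : ∀ a : ↥(E.autGroup P), a ∈ A ↔ ∀ x : ↥P, (x : Ω) ∈ Q → (a : MulAut ↥P) x = x :=
    fun _ => Iff.rfl
  have hAn : A.Normal := by
    refine ⟨fun a ha g => ?_⟩
    rw [hAmem] at ha ⊢
    intro x hx
    have hgx : (((g : MulAut ↥P)⁻¹ x : ↥P) : Ω) ∈ Q :=
      aut_mem_of_stronglyClosed E hQ hPS (Subgroup.inv_mem _ g.2) hx
    show (g : MulAut ↥P) ((a : MulAut ↥P) (((g : MulAut ↥P)⁻¹) x)) = x
    rw [ha _ hgx]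
    exact MulAut.apply_inv_self _ _ x
  have hAp : IsPGroup p ↥A := by
    intro a
    obtain ⟨e, m, hm, hem⟩ := Nat.exists_eq_pow_mul_and_not_dvd
      (orderOf_pos (a : ↥(E.autGroup P))).ne' p (Fact.out : p.Prime).ne_one
    refine ⟨e, ?_⟩
    have hb : ((a : ↥(E.autGroup P)) ^ (p ^ e)) ∈ A := Subgroup.pow_mem _ a.2 _
    have hbfix := (hAmem _).1 hb
    have hord : orderOf (((a : ↥(E.autGroup P)) ^ (p ^ e) : ↥(E.autGroup P)) : MulAut ↥P) = m := by
      rw [Subgroup.orderOf_coe, orderOf_pow' _ (pow_ne_zero e (Fact.out : p.Prime).ne_zero), hem,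
        Nat.gcd_eq_right (Dvd.intro _ rfl), Nat.mul_div_cancel_left _ (pow_pos (Fact.out : p.Prime).pos e)]
    have hcop : (orderOf (((a : ↥(E.autGroup P)) ^ (p ^ e) : ↥(E.autGroup P)) : MulAut ↥P)).Coprime p := by
      rw [hord]
      exact ((Fact.out : p.Prime).coprime_iff_not_dvd.2 hm).symm
    have h1 := fix_coprime_eq_one p hS E hPS hQP hQ hcen _
      ((a : ↥(E.autGroup P)) ^ (p ^ e)).2 hbfix hcop
    apply Subtype.ext
    apply Subtype.ext
    exact h1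
  have hle : A ≤ pCore p ↥(E.autGroup P) := by
    unfold pCore
    exact le_sSup ⟨hAn, hAp⟩
  have hαA : (⟨α, hα⟩ : ↥(E.autGroup P)) ∈ A := (hAmem _).2 hfix
  have hαInn : α ∈ Inn ↥P := by
    rw [← hrad.2]
    exact ⟨⟨α, hα⟩, hle hαA, rfl⟩
  obtain ⟨y, hy⟩ := hαInn
  exact ⟨y, hy.symm⟩

end Cfsg.Agent.Helper4.S56
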