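import Mathlib
import Cfsg.Agent.Lib.Helper25.Fusion
import Cfsg.Agent.Lib.Helper25.FusionAut
import Cfsg.Agent.Lib.Helper25.FusionNormal2

/-!
# S5156 piece S56-AUTRESTR: an `F`-automorphism of `R` restricts to an `F`-automorphism of a strongly closed `Q ≤ R`
Uses `Helper25.exists_restrict_aut` + `Helper25.map_aut_eq_of_stronglyClosed` (`Lib/Helper25/FusionNormal2.lean`); the restriction is
an `F`-map by `restrict_mem`. Aux names: prefix `s56autrestr_`.
-/

set_option autoImplicit false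

namespace Cfsg.Agent.Helper4.S56

open Cfsg Cfsg.FusionSystem Cfsg.Agent.Helper25

variable {Ω : Type*} [Group Ω] {S : Subgroup Ω}

theorem exists_restrict_aut [Finite S] (F : FusionSystem S) {Q R : Subgroup Ω} (hQ : F.StronglyClosed Q)
    (hQR : Q ≤ R) (hRS : R ≤ S) :
    ∀ α ∈ F.autGroup R, ∃ β ∈ F.autGroup Q, ∀ x : ↥Q,
      ((β x : ↥Q) : Ω) = ((α (Subgroup.inclusion hQR x) : ↥R) : Ω) := by
  intro α hα
  obtain ⟨κ, hκ⟩ := Cfsg.Agent.Helper25.exists_restrict_aut hQR α
    (map_aut_eq_of_stronglyClosed F hQ hRS hQR hα)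
  have hval : ∀ x : Q, ((κ x : Q) : Ω) = ((α (Subgroup.inclusion hQR x) : R) : Ω) := by
    intro x
    have h1 := congrArg (fun z : R => (z : Ω)) (hκ x)
    exact h1.symm
  refine ⟨κ, ?_, hval⟩
  rw [mem_autGroup_iff F (hQR.trans hRS)]
  have hαF := (mem_autGroup_iff F hRS α).mp hα
  have e : Q.subtype.comp κ.toMonoidHom
      = (R.subtype.comp α.toMonoidHom).comp (Subgroup.inclusion hQR) := by
    ext x
    exact hval x
  rw [e]
  exact restrict_mem F hQR hαF

end Cfsg.Agent.Helper4.S56
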