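import Mathlib
import Cfsg.Prelude.Def_FusionSystem
import Cfsg.Prelude.Def_FusionComponents
import Cfsg.Prelude.Def_FusionReduction
import Cfsg.Prelude.Def_Local

/-!
# S5156 (design helper4): terminating residual series <-> constrained with p-solvable models. Definitions.

`PSL p F`: `F` is constrained and `Aut_F(O_p(F))` has finite `p`-length (`PLengthLE`; equivalent to `p`-solvable for
finite groups, and closed under extensions by `Helper19.PLen.plengthLE_add`).
`starOf F R`: the subgroup generated by the images of `R` under all maps of `F` with source `R` (the `R*` of S5291).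
-/

set_option autoImplicit false

namespace Cfsg.Agent.Helper4.S56

open Cfsg Cfsg.FusionSystem

variable {Ω : Type*} [Group Ω]

/-- constrained, and the automizer of the core has finite `p`-length -/
def PSL (p : ℕ) {S : Subgroup Ω} (F : FusionSystem S) : Prop :=
  F.IsConstrained p ∧ ∃ k : ℕ, PLengthLE p k ↥(F.autGroup F.core)

/-- the subgroup generated by the `F`-images of `R` -/
def starOf {S : Subgroup Ω} (F : FusionSystem S) (R : Subgroup Ω) : Subgroup Ω :=
  Subgroup.closure {x : Ω | ∃ φ ∈ F.Hom R, ∃ r : R, x = φ r}

end Cfsg.Agent.Helper4.S56
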