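import Mathlib
import Cfsg.Prelude.Def_FusionComponents
import Cfsg.Agent.Lib.Helper25.Fusion

/-!
# S5156 piece S56-IDEM: the `p'`-residual subsystem is its own `p'`-residual subsystem
RECIPE. `h : D.IsPPrimeResidual p D'` is `⟨hsat, ⟨hsub, hidx⟩, hmin⟩`. Goal `⟨hsat, ⟨fun _ _ h => h, ?a⟩, ?b⟩`.
`?a`: for `P ≤ S`, `(closure {..}).map (D'.autGroup P).subtype ≤ D'.autGroup P`: `rintro _ ⟨a, -, rfl⟩; exact a.2`.
`?b`: given `X` saturated with `X.HasPrimeToPIndexIn D' p = ⟨hXsub, hXidx⟩`, apply `hmin X hXsat ⟨fun P φ hφ => hsub P (hXsub P hφ), ?c⟩`.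
`?c`: for `P ≤ S`: `(closure {α : ↥(D.autGroup P) | ∃ k, orderOf α = p ^ k}).map subtype ≤ X.autGroup P`. Use `Subgroup.map_le_iff_le_comap`,
`Subgroup.closure_le`: a generator `α : ↥(D.autGroup P)` of order `p ^ k` has `(α : MulAut ↥P) ∈ D'.autGroup P`
(`hidx P hP (Subgroup.mem_map_of_mem _ (Subgroup.subset_closure ⟨k, hk⟩))`), and as an element `α' : ↥(D'.autGroup P)` it has the same
order (`Subgroup.orderOf_mk`), so `(α' : MulAut ↥P) ∈ X.autGroup P` by `hXidx P hP (Subgroup.mem_map_of_mem _ (Subgroup.subset_closure ⟨k, _⟩))`.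
Aux names: prefix `s56idem_`.
-/

set_option autoImplicit false

namespace Cfsg.Agent.Helper4.S56

open Cfsg Cfsg.FusionSystem

variable {Ω : Type*} [Group Ω] {S : Subgroup Ω}

theorem isPPrimeResidual_self (p : ℕ) (D D' : FusionSystem S) (h : D.IsPPrimeResidual p D') :
    D'.IsPPrimeResidual p D' := by
  obtain ⟨hsat, ⟨hsub, hidx⟩, hmin⟩ := h
  refine ⟨hsat, ⟨fun _ _ h => h, ?_⟩, ?_⟩
  · intro P _
    rintro _ ⟨a, -, rfl⟩
    exact a.2
  · intro X hXsat hXi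
    obtain ⟨hXsub, hXidx⟩ := hXi
    refine hmin X hXsat ⟨fun P φ hφ => hsub P (hXsub P hφ), ?_⟩
    intro P hP
    rw [Subgroup.map_le_iff_le_comap, Subgroup.closure_le]
    rintro α ⟨k, hk⟩
    show ((α : MulAut ↥P)) ∈ X.autGroup P
    have hα' : (α : MulAut ↥P) ∈ D'.autGroup P :=
      hidx P hP (Subgroup.mem_map_of_mem _ (Subgroup.subset_closure ⟨k, hk⟩))
    have hord : orderOf (⟨(α : MulAut ↥P), hα'⟩ : ↥(D'.autGroup P)) = p ^ k := by
      rw [Subgroup.orderOf_mk, ← hk, Subgroup.orderOf_coe]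
    have hgen : (⟨(α : MulAut ↥P), hα'⟩ : ↥(D'.autGroup P)) ∈
        Subgroup.closure {β : ↥(D'.autGroup P) | ∃ k : ℕ, orderOf β = p ^ k} :=
      Subgroup.subset_closure ⟨k, hord⟩
    exact hXidx P hP (Subgroup.mem_map_of_mem (D'.autGroup P).subtype hgen)

end Cfsg.Agent.Helper4.S56
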