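import Mathlib
import Cfsg.Prelude.Def_FusionReduction
import Cfsg.Agent.Lib.S56.S56Idem
import Cfsg.Agent.Lib.Helper25.Fusion
import Cfsg.Agent.Lib.Helper25.FusionHyp
import Cfsg.Agent.S5113
import Cfsg.Agent.S5140

/-!
# S5156 piece S56-EXLIM: every saturated fusion system over a finite `p`-group has a residual limit
RECIPE. (1) `exists_limit_of_stable`: strong induction on `n = Nat.card S` (generalize `S`, `F`), for `F` with `F.IsPPrimeResidual p F`.
If `F.hyperfocalSubgroup p = S`: `⟨S, F, IsResidualLimitOf.stable F p h hst⟩`. Otherwise `U := F.hyperfocalSubgroup p ≤ S`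
(`Helper25.hyperfocalSubgroup_le F p`), `U ≠ S`, so `Nat.card U < Nat.card S` (`Subgroup.card_lt_of_lt`-type lemma; `Finite` via
`Helper25.finite_of_le_finite`), `IsPGroup p U` (`hS.to_le`). `Cfsg.Agent.S5113.result p hS F hF U hUS le_rfl` gives `D` with
`D.IsSaturated p ∧ D.HasPPowerIndexIn F p`, i.e. `F.IsPResidual p D`. `Cfsg.Agent.S5140.result p hU D hDsat` gives `D'` with
`D.IsPPrimeResidual p D'`; `isPPrimeResidual_self p D D' hD'` (S56-IDEM, by statement) and `hD'.1 : D'.IsSaturated p`; the induction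
hypothesis for `D'` (over `U`) gives `⟨V, W, hW⟩`; answer `⟨V, W, IsResidualLimitOf.step F p D D' ⟨hDsat, hDidx⟩ hD' hW⟩`.
(2) `exists_limit`: same first step for arbitrary saturated `F` (no case split, no induction): `D`, `D'` as above, then apply (1) to `D'`.
NOTE the instance arguments: `[Finite ↥U]` must be provided by `haveI`. Aux names: prefix `s56exlim_`.
-/

set_option autoImplicit false

namespace Cfsg.Agent.Helper4.S56

open Cfsg Cfsg.FusionSystem Cfsg.Agent.Helper25

variable {Ω : Type*} [Group Ω]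

theorem exists_limit_of_stable (p : ℕ) [Fact p.Prime] :
    ∀ (n : ℕ) (S : Subgroup Ω) [Finite S], Nat.card S = n → IsPGroup p S → ∀ F : FusionSystem S,
      F.IsSaturated p → F.IsPPrimeResidual p F →
      ∃ (V : Subgroup Ω) (W : FusionSystem V), W.IsResidualLimitOf F p := by
  intro n
  induction n using Nat.strong_induction_on with
  | _ n ih =>
    intro S _ hn hS F hF hst
    by_cases h : F.hyperfocalSubgroup p = S
    · exact ⟨S, F, IsResidualLimitOf.stable F p h hst⟩
    · have hUS : F.hyperfocalSubgroup p ≤ S := hyperfocalSubgroup_le F p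
      have : Finite ↥(F.hyperfocalSubgroup p) := finite_of_le_finite hUS
      have hU : IsPGroup p ↥(F.hyperfocalSubgroup p) := hS.to_le hUS
      have hlt : Nat.card ↥(F.hyperfocalSubgroup p) < n := by
        rw [← hn]
        by_contra hge
        rw [not_lt] at hge
        exact h (Subgroup.eq_of_le_of_card_ge hUS hge)
      obtain ⟨D, ⟨hDsat, hDidx⟩, -⟩ := Cfsg.Agent.S5113.result p hS F hF _ hUS le_rfl
      obtain ⟨D', hD'⟩ := Cfsg.Agent.S5140.result p hU D hDsat
      have hD'self := isPPrimeResidual_self p D D' hD'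
      obtain ⟨V, W, hW⟩ := ih _ hlt (F.hyperfocalSubgroup p) rfl hU D' hD'.1 hD'self
      exact ⟨V, W, IsResidualLimitOf.step F p D D' ⟨hDsat, hDidx⟩ hD' hW⟩

theorem exists_limit {S : Subgroup Ω} [Finite S] (p : ℕ) [Fact p.Prime] (hS : IsPGroup p S)
    (F : FusionSystem S) (hF : F.IsSaturated p) :
    ∃ (V : Subgroup Ω) (W : FusionSystem V), W.IsResidualLimitOf F p := by
  have hUS : F.hyperfocalSubgroup p ≤ S := hyperfocalSubgroup_le F p
  have : Finite ↥(F.hyperfocalSubgroup p) := finite_of_le_finite hUS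
  have hU : IsPGroup p ↥(F.hyperfocalSubgroup p) := hS.to_le hUS
  obtain ⟨D, ⟨hDsat, hDidx⟩, -⟩ := Cfsg.Agent.S5113.result p hS F hF _ hUS le_rfl
  obtain ⟨D', hD'⟩ := Cfsg.Agent.S5140.result p hU D hDsat
  obtain ⟨V, W, hW⟩ := exists_limit_of_stable p _ (F.hyperfocalSubgroup p) rfl hU D' hD'.1
    (isPPrimeResidual_self p D D' hD')
  exact ⟨V, W, IsResidualLimitOf.step F p D D' ⟨hDsat, hDidx⟩ hD' hW⟩

end Cfsg.Agent.Helper4.S56
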