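import Mathlib
import Cfsg.Agent.Lib.Helper25.Fusion
import Cfsg.Agent.Lib.Helper25.FusionAut
import Cfsg.Agent.S5290

/-!
# S5156 piece S56-INNEXT: for `Q ⊴ F` the inner system `F_Q(Q)` is NORMAL in `F` (weakly normal by S5290 + the extension condition)
RECIPE. `refine ⟨(Cfsg.Agent.S5290.result p hS F hF Q hQ.1).mp hQ, fun α hα => ?_⟩`.
`(mem_autGroup_iff (innerFusionSystem Q) le_rfl α).mp hα : Q.subtype.comp α.toMonoidHom ∈ (innerFusionSystem Q).Hom Q`, which unfolds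
(`innerFusionSystem`, `Cfsg/Prelude/Def_FusionSystem.lean` l.422) to `Q ≤ Q ∧ ∃ g ∈ Q, ∀ x : ↥Q, ((α x : ↥Q) : Ω) = g * x * g⁻¹`.
Let `R := Q ⊔ centralizerIn S Q`, `g' : ↥R := ⟨g, le_sup_left hg⟩`, `β := MulAut.conj g'`. `R ≤ S` (`sup_le hQ.1 centralizerIn_le`).
`β ∈ F.autGroup R`: `(mem_autGroup_iff F hRS β).mpr`; the composite `R.subtype.comp β.toMonoidHom` equals `conjHom R g`
(`MonoidHom.ext`, unfold `conjHom`, `MulAut.conj_apply`; `rfl` may do) and `F.conj_mem hRS (hQ.1 hg)`.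
First clause: `β (inclusion x) = g * x * g⁻¹` (`MulAut.conj_apply`, coercions) `= α x`.
Second clause: `c ∈ centralizerIn S Q` commutes with `g ∈ Q` (`(mem_centralizerIn.mp hc).2 g hg : g * c = c * g`), so
`c⁻¹ * (g * c * g⁻¹) = 1`, and `1 ∈ Q ⊓ Subgroup.centralizer Q` (`Subgroup.one_mem`). Aux names: prefix `s56innext_`.
-/

set_option autoImplicit false

namespace Cfsg.Agent.Helper4.S56

open Cfsg Cfsg.FusionSystem Cfsg.Agent.Helper25

variable {Ω : Type*} [Group Ω] {S : Subgroup Ω}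

theorem inner_isNormalIn [Finite S] (p : ℕ) [Fact p.Prime] (hS : IsPGroup p S) (F : FusionSystem S)
    (hF : F.IsSaturated p) {Q : Subgroup Ω} (hQ : F.IsNormal Q) :
    (innerFusionSystem Q).IsNormalIn F p := by
  refine ⟨(Cfsg.Agent.S5290.result p hS F hF Q hQ.1).mp hQ, fun α hα => ?_⟩
  have hα' : Q.subtype.comp α.toMonoidHom ∈ (innerFusionSystem Q).Hom Q :=
    (mem_autGroup_iff (innerFusionSystem Q) le_rfl α).mp hα
  obtain ⟨-, g, hg, hgα⟩ := hα'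
  have hRS : Q ⊔ centralizerIn S Q ≤ S := sup_le hQ.1 centralizerIn_le
  have hgR : g ∈ Q ⊔ centralizerIn S Q := (le_sup_left : Q ≤ Q ⊔ centralizerIn S Q) hg
  have hβ : MulAut.conj (⟨g, hgR⟩ : ↥(Q ⊔ centralizerIn S Q)) ∈
      F.autGroup (Q ⊔ centralizerIn S Q) := by
    rw [mem_autGroup_iff F hRS]
    have h1 : (Q ⊔ centralizerIn S Q).subtype.comp
        (MulAut.conj (⟨g, hgR⟩ : ↥(Q ⊔ centralizerIn S Q))).toMonoidHom =
        conjHom (Q ⊔ centralizerIn S Q) g := by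
      apply MonoidHom.ext
      intro x
      rfl
    rw [h1]
    exact F.conj_mem hRS (hQ.1 hg)
  refine ⟨MulAut.conj (⟨g, hgR⟩ : ↥(Q ⊔ centralizerIn S Q)), hβ, ?_, ?_⟩
  · intro x
    have h2 := hgα x
    show g * (x : Ω) * g⁻¹ = ((α x : Q) : Ω)
    rw [← h2]
    rfl
  · intro c hc
    have hcomm : g * (c : Ω) = (c : Ω) * g := (mem_centralizerIn.mp hc).2 g hg
    have h3 : (c : Ω)⁻¹ * ((MulAut.conj (⟨g, hgR⟩ : ↥(Q ⊔ centralizerIn S Q)) c :
        ↥(Q ⊔ centralizerIn S Q)) : Ω) = 1 := by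
      show (c : Ω)⁻¹ * (g * (c : Ω) * g⁻¹) = 1
      rw [hcomm]
      group
    rw [h3]
    exact Subgroup.one_mem _

end Cfsg.Agent.Helper4.S56
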