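import Mathlib
import Cfsg.Prelude.Def_FusionReduction
import Cfsg.Agent.Lib.Helper25.Fusion
import Cfsg.Agent.Lib.WE.WEHypInn
import Cfsg.Agent.Lib.OLR.OLRLim

/-!
# S5156 piece S56-INNLIM: every residual limit of the inner system of a finite `p`-group is over the trivial subgroup
RECIPE. `hyp := Helper18.WE.hyperfocal_inner_eq_bot p hQ : (innerFusionSystem Q).hyperfocalSubgroup p = ⊥` (`Lib/WE/WEHypInn.lean`).
`cases h with | stable _ _ h1 h2 => .. | step _ _ D D' hD hD' hlim => ..` (model: `lim_unique` in `Lib/Helper16/ResLim2.lean`).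
`stable`: `V = Q` and `h1 : hyp(..) = Q`, so `Q = ⊥` (`h1.symm.trans hyp`).
`step`: `Helper3.OLR.limit_le hlim : W.IsSubsystemOf D'` (`Lib/OLR/OLRLim.lean`), `D'` over `(innerFusionSystem Q).hyperfocalSubgroup p`.
`V.subtype ∈ W.Hom V`: `Helper25.subtype_mem W le_rfl`; so it is in `D'.Hom V` and `(D'.le_of_mem _).1 : V ≤ hyp(..)`; with `hyp`, `V ≤ ⊥`; `le_bot_iff`.
Aux names: prefix `s56innlim_`.
-/

set_option autoImplicit false

namespace Cfsg.Agent.Helper4.S56

open Cfsg Cfsg.FusionSystem Cfsg.Agent.Helper25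

variable {Ω : Type*} [Group Ω]

theorem inner_limit_bot {Q : Subgroup Ω} [Finite Q] (p : ℕ) [Fact p.Prime] (hQ : IsPGroup p Q)
    {V : Subgroup Ω} (W : FusionSystem V) (h : W.IsResidualLimitOf (innerFusionSystem Q) p) : V = ⊥ := by
  have hyp := Cfsg.Agent.Helper18.WE.hyperfocal_inner_eq_bot p hQ
  cases h with
  | stable _ _ h1 h2 => exact h1.symm.trans hyp
  | step _ _ D D' hD hD' hlim =>
    have hle : W.IsSubsystemOf D' := Cfsg.Agent.Helper3.OLR.limit_le hlim
    have h1 : V.subtype ∈ W.Hom V := subtype_mem W le_rfl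
    have h2 : V.subtype ∈ D'.Hom V := hle V h1
    have h3 : V ≤ (innerFusionSystem Q).hyperfocalSubgroup p := (D'.le_of_mem h2).1
    rw [hyp] at h3
    exact le_bot_iff.mp h3

end Cfsg.Agent.Helper4.S56
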