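import Mathlib
import Cfsg.Prelude.Def_FusionReduction
import Cfsg.Prelude.Def_FusionComponents

/-!
# S5156 piece S56-LEMA: a residual limit over the trivial subgroup gives a terminating residual series (bookkeeping)
RECIPE. Induction on `h` (`induction h with | stable F₁ p h1 h2 => .. | step F₁ p D D' hD hD' hlim ih => ..`; model:
`lim_of_stable` in `Lib/Helper16/ResLim2.lean`; if `induction` complains about indices, first `revert`/generalize as there).
`stable`: here `W = F₁`, `V = S`, so `hV : S = ⊥`; `HasTerminatingResidualSeries.trivial F p hV`.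
`step`: `ih : V = ⊥ → ∀ F' : FusionSystem (F₁.hyperfocalSubgroup p), F'.IsPPrimeResidual p D' → F'.HasTerminatingResidualSeries p`.
`ih hV D hD' : D.HasTerminatingResidualSeries p`; then `HasTerminatingResidualSeries.step F F₁ p D hF hD (ih hV D hD')`.
Aux names: prefix `s56lema_`.
-/

set_option autoImplicit false

namespace Cfsg.Agent.Helper4.S56

open Cfsg Cfsg.FusionSystem

variable {Ω : Type*} [Group Ω]

theorem terminating_of_limit {p : ℕ} {V S : Subgroup Ω} {W : FusionSystem V} {F₁ : FusionSystem S}
    (h : W.IsResidualLimitOf F₁ p) :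
    V = ⊥ → ∀ F : FusionSystem S, F.IsPPrimeResidual p F₁ → F.HasTerminatingResidualSeries p := by
  induction h with
  | stable F₁ p h1 h2 =>
    intro hV F _
    exact HasTerminatingResidualSeries.trivial F p hV
  | step F₁ p D D' hD hD' hlim ih =>
    intro hV F hF
    exact HasTerminatingResidualSeries.step F F₁ p D hF hD (ih hV D hD')

end Cfsg.Agent.Helper4.S56
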