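import Mathlib
import Cfsg.Agent.Lib.S56.S56Defs
import Cfsg.Agent.Lib.S56.S56InnExt
import Cfsg.Agent.Lib.S56.S56InnLim
import Cfsg.Agent.Lib.S56.S56ExLim
import Cfsg.Agent.Lib.S56.S56LemA
import Cfsg.Agent.Lib.OLR.OLRLim
import Cfsg.Agent.Lib.OLR.OLRPPNorm
import Cfsg.Agent.Lib.Helper16.ResLim2
import Cfsg.Agent.Lib.Helper23.PSolvable
import Cfsg.Agent.Lib.Helper3.SubConstrained
import Cfsg.Agent.Lib.Helper25.FusionNormal
import Cfsg.Agent.S5201
import Cfsg.Agent.S5140

/-!
# S5156 (assembly, helper4): constrained with `p`-solvable core automizer gives a terminating residual series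
-/

set_option autoImplicit false

namespace Cfsg.Agent.Helper4.S56

open Cfsg Cfsg.FusionSystem Cfsg.Agent.Helper25

variable {Ω : Type*} [Group Ω] {S : Subgroup Ω}

theorem terminating_of_ps [Finite S] (p : ℕ) [Fact p.Prime] (hS : IsPGroup p S) (F : FusionSystem S)
    (hF : F.IsSaturated p) (hc : F.IsConstrained p) (hps : IsPSolvable p ↥(F.autGroup F.core)) :
    F.HasTerminatingResidualSeries p := by
  have hQn : F.IsNormal F.core := isNormal_core F
  have hQc : F.IsCentric F.core := Cfsg.Agent.Helper3.SubConstrained.core_isCentric F hc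
  have hQS : F.core ≤ S := hQn.1
  have hfQ : Finite ↥F.core := finite_of_le_finite hQS
  have hQp : IsPGroup p ↥F.core := hS.to_le hQS
  have hEn : (innerFusionSystem F.core).IsNormalIn F p := inner_isNormalIn p hS F hF hQn
  have hCE : ∀ Y : Subgroup Ω, Y ≤ centralizerIn S F.core →
      (∀ C : FusionSystem (centralizerIn S Y), F.IsCentralizerSystem Y C →
        (innerFusionSystem F.core).IsSubsystemOf C) → Y ≤ F.core :=
    fun Y hY _ => hY.trans (hQc.2 F.core (isConj_refl F hQS))
  have hn : (((innerFusionSystem F.core).autGroup F.core).subgroupOf (F.autGroup F.core)).Normal := by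
    refine ⟨fun n hn g => ?_⟩
    rw [Subgroup.mem_subgroupOf] at hn ⊢
    exact Cfsg.Agent.Helper3.OLR.autGroup_conj_mem hEn.1.2.2 g.2 hn
  have hsolv : IsPSolvable p (↥(F.autGroup F.core) ⧸
      ((innerFusionSystem F.core).autGroup F.core).subgroupOf (F.autGroup F.core)) :=
    Cfsg.Agent.Helper23.PSolv.isPSolvable_quotient _ hps
  obtain ⟨U, Finf, hFinf⟩ := exists_limit p hS F hF
  obtain ⟨V, Einf, hEinf⟩ := exists_limit p hQp (innerFusionSystem F.core) hEn.1.1
  have heq := Cfsg.Agent.S5201.result p hS F hF (innerFusionSystem F.core) hEn hCE hsolv Finf hFinf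
    Einf hEinf
  have hV : V = ⊥ := inner_limit_bot p hQp Einf hEinf
  have hU : U = ⊥ := by
    have h1 := Cfsg.Agent.Helper16.ResLim.base_eq_of_homEq Finf Einf heq
    rw [h1, hV]
  obtain ⟨F₁, hF₁⟩ := Cfsg.Agent.S5140.result p hS F hF
  have hsame : Cfsg.Agent.Helper3.OLR.SameLim p F F₁ :=
    Cfsg.Agent.Helper3.OLR.sameLim_pPrime p hS F F₁ hF hF₁.1 hF₁.2.1
  have hlim₁ : Finf.IsResidualLimitOf F₁ p := (hsame Finf).mp hFinf
  exact terminating_of_limit hlim₁ hU F hF₁

end Cfsg.Agent.Helper4.S56
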