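import Mathlib
import Cfsg.Agent.Lib.Helper25.Fusion
import Cfsg.Agent.Lib.Helper25.FusionNormal2
import Cfsg.Agent.Lib.Helper3.SubConstrained

/-!
# S5156 piece S56-CENTRIC: a normal subgroup of `F` containing its centralizer in `S` is `F`-centric
RECIPE. `⟨hQ.1, fun Q' hconj => ?_⟩`; `Helper3.SubConstrained.eq_of_isConj_of_stronglyClosed F (stronglyClosed_of_isNormal F hQ) hconj : Q' = Q`
(`stronglyClosed_of_isNormal` in `Lib/Helper25/FusionNormal2.lean`); rewrite and use `hcen`. (Model: `core_isCentric` in `Lib/Helper3/SubConstrained.lean`.)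
Aux names: prefix `s56centric_`.
-/

set_option autoImplicit false

namespace Cfsg.Agent.Helper4.S56

open Cfsg Cfsg.FusionSystem Cfsg.Agent.Helper25

variable {Ω : Type*} [Group Ω] {S : Subgroup Ω}

theorem isCentric_of_isNormal [Finite S] (F : FusionSystem S) {Q : Subgroup Ω} (hQ : F.IsNormal Q)
    (hcen : centralizerIn S Q ≤ Q) : F.IsCentric Q := by
  refine ⟨hQ.1, fun Q' hconj => ?_⟩
  have hQ' := Cfsg.Agent.Helper3.SubConstrained.eq_of_isConj_of_stronglyClosed F
    (stronglyClosed_of_isNormal F hQ) hconj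
  rw [hQ']
  exact hcen

end Cfsg.Agent.Helper4.S56
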