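import Mathlib
import Cfsg.Prelude.Def_Local
import Cfsg.Agent.Lib.Helper19.PLength

/-!
# S5156 piece S56-RESPP: if `O^{p'}(A) ≤ N` and `N` has `p`-length `≤ k` then so has `A`
(`O^{p'}(A)` = the subgroup of `↥A` generated by the elements of `p`-power order, as in `FusionSystem.HasPrimeToPIndexIn`.)
RECIPE. `N₀ := Subgroup.closure {a : ↥A | ∃ j, orderOf a = p ^ j}` is normal in `↥A` (the generating set is invariant under
conjugation: `orderOf_conj`-type lemma; `Subgroup.closure` of a conjugation-invariant set is normal: prove by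
`Subgroup.closure_induction` or copy the proof of `Helper22.pResidual_normal` in `Lib/Helper22/PResidual.lean`).
Every Sylow `p`-subgroup `P` of `↥A` lies in `N₀` (its elements have `p`-power order: `IsPGroup.iff_orderOf`/`P.isPGroup'`), so
`N₀.index ∣ P.index` (`Subgroup.index_dvd_of_le`) is prime to `p` (`Sylow.not_dvd_index'` / `P.not_dvd_index`), hence
`Nat.card (↥A ⧸ N₀) = N₀.index` is prime to `p` and `plengthLE_zero_of_coprime : PLengthLE p 0 (↥A ⧸ N₀)`.
`↥N₀` embeds in `↥N` (as in piece S56-RESP), so `PLengthLE p k ↥N₀` (`plengthLE_subgroup`, `plengthLE_of_mulEquiv`).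
`plengthLE_add N₀ _ _ : PLengthLE p (k + 0) ↥A`. Aux names: prefix `s56respp_`.
-/

set_option autoImplicit false

namespace Cfsg.Agent.Helper4.S56

open Cfsg Cfsg.Agent.Helper19.PLen

theorem s56respp_normal {H : Type*} [Group H] (p : ℕ) :
    (Subgroup.closure {a : H | ∃ j : ℕ, orderOf a = p ^ j}).Normal := by
  constructor
  intro n hn g
  induction hn using Subgroup.closure_induction with
  | mem x hx =>
    apply Subgroup.subset_closure
    obtain ⟨j, hj⟩ := hx
    refine ⟨j, ?_⟩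
    have : g * x * g⁻¹ = MulAut.conj g x := by simp [MulAut.conj_apply]
    rw [this, (MulAut.conj g).orderOf_eq x]
    exact hj
  | one => simp
  | mul x y _ _ hx hy =>
    have : g * (x * y) * g⁻¹ = (g * x * g⁻¹) * (g * y * g⁻¹) := by group
    rw [this]
    exact Subgroup.mul_mem _ hx hy
  | inv x _ hx =>
    have : g * x⁻¹ * g⁻¹ = (g * x * g⁻¹)⁻¹ := by group
    rw [this]
    exact Subgroup.inv_mem _ hx

theorem plengthLE_of_pPrimeRes_le {M : Type*} [Group M] {p : ℕ} [Fact p.Prime] (A N : Subgroup M)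
    [Finite ↥A] [Finite ↥N]
    (h : (Subgroup.closure {a : ↥A | ∃ j : ℕ, orderOf a = p ^ j}).map A.subtype ≤ N) {k : ℕ}
    (hN : PLengthLE p k ↥N) : PLengthLE p k ↥A := by
  haveI hnorm : (Subgroup.closure {a : ↥A | ∃ j : ℕ, orderOf a = p ^ j}).Normal :=
    s56respp_normal p
  obtain ⟨N₀, hN₀⟩ : ∃ N₀ : Subgroup ↥A,
      N₀ = Subgroup.closure {a : ↥A | ∃ j : ℕ, orderOf a = p ^ j} := ⟨_, rfl⟩
  rw [← hN₀] at h
  haveI : N₀.Normal := by rw [hN₀]; exact hnorm
  -- the quotient is a p'-group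
  have hq : PLengthLE p 0 (↥A ⧸ N₀) := by
    apply plengthLE_zero_of_coprime
    obtain ⟨P⟩ : Nonempty (Sylow p ↥A) := inferInstance
    have hPle : (P : Subgroup ↥A) ≤ N₀ := by
      intro x hx
      rw [hN₀]
      apply Subgroup.subset_closure
      obtain ⟨j, hj⟩ := (IsPGroup.iff_orderOf.mp P.isPGroup') ⟨x, hx⟩
      refine ⟨j, ?_⟩
      rw [← hj]
      exact Subgroup.orderOf_coe (⟨x, hx⟩ : (P : Subgroup ↥A))
    have hdvd : N₀.index ∣ (P : Subgroup ↥A).index := Subgroup.index_dvd_of_le hPle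
    have hnd : ¬ p ∣ (P : Subgroup ↥A).index := P.not_dvd_index
    have hnd' : ¬ p ∣ N₀.index := fun h' => hnd (h'.trans hdvd)
    rw [← Subgroup.index_eq_card]
    exact ((Nat.Prime.coprime_iff_not_dvd Fact.out).mpr hnd').symm
  -- N₀ embeds in N
  have hmem : ∀ x : ↥N₀, ((x : ↥A) : M) ∈ N := fun x => h ⟨(x : ↥A), x.2, rfl⟩
  let j : ↥N₀ →* ↥N :=
    { toFun := fun x => ⟨((x : ↥A) : M), hmem x⟩
      map_one' := rfl
      map_mul' := fun _ _ => rfl }
  have hj : Function.Injective j := by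
    intro x y hxy
    have h1 : ((x : ↥A) : M) = ((y : ↥A) : M) := congrArg (fun z : ↥N => (z : M)) hxy
    exact Subtype.ext (Subtype.ext h1)
  have h1 : PLengthLE p k ↥j.range := plengthLE_subgroup j.range hN
  have h2 : PLengthLE p k ↥N₀ := plengthLE_of_mulEquiv (MonoidHom.ofInjective hj).symm h1
  exact plengthLE_add N₀ h2 hq

end Cfsg.Agent.Helper4.S56
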