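import Mathlib
import Cfsg.Prelude.Def_Local
import Cfsg.Agent.Lib.Helper19.PLength

/-!
# S5156 piece S56-KER: a `p`-group kernel raises the `p`-length by at most one
RECIPE. `N := f.ker` is normal. `plengthLE_one_of_isPGroup hk : PLengthLE p 1 ↥f.ker`.
`QuotientGroup.quotientKerEquivRange f : A ⧸ f.ker ≃* f.range`, so `plengthLE_of_mulEquiv` (check its direction; use `.symm`
if needed) gives `PLengthLE p k (A ⧸ f.ker)` from `h`. `plengthLE_add f.ker h1 h2 : PLengthLE p (1 + k) A`.
(All in `Cfsg.Agent.Helper19.PLen`, file `Lib/Helper19/PLength.lean`.) Aux names: prefix `s56ker_`.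
-/

set_option autoImplicit false

namespace Cfsg.Agent.Helper4.S56

open Cfsg Cfsg.Agent.Helper19.PLen

theorem plengthLE_of_ker {A B : Type*} [Group A] [Group B] [Finite A] [Finite B] {p : ℕ} [Fact p.Prime]
    (f : A →* B) (hk : IsPGroup p f.ker) {k : ℕ} (h : PLengthLE p k ↥f.range) :
    PLengthLE p (1 + k) A := by
  have h1 : PLengthLE p 1 ↥f.ker := plengthLE_one_of_isPGroup hk
  have h2 : PLengthLE p k (A ⧸ f.ker) :=
    plengthLE_of_mulEquiv (QuotientGroup.quotientKerEquivRange f).symm h
  exact plengthLE_add f.ker h1 h2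

end Cfsg.Agent.Helper4.S56
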