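import Mathlib
import Cfsg.Prelude.Def_Local
import Cfsg.Agent.Lib.Helper19.PLength
import Cfsg.Agent.Lib.S56.S56Ker

/-!
# S5156 piece S56-RESTR: restriction `A ≤ Aut(R) → B ≤ Aut(Q)` with `p`-group kernel raises the `p`-length by at most one
RECIPE (MEDIUM-LONG). For `a : ↥A` choose `β a ∈ B` by `hres` (`Classical.choose`); it is unique: two automorphisms of `Q` with the
same values in `Ω` are equal (`MulEquiv.ext`, `Subtype.ext`). Define `f : ↥A →* ↥B`, `a ↦ ⟨β a, _⟩`; `map_mul'`/`map_one'` by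
uniqueness (the product `β a * β b` satisfies the defining property of `β (a*b)`: unfold `MulAut.mul_apply`, and use that
`(b (incl x))` is again of the form `incl ⟨_, _⟩` because its value `= (β b x : Ω) ∈ Q`). Kernel: `a ∈ f.ker` iff `a` fixes `Q`
pointwise. `IsPGroup p f.ker`: for `a ∈ f.ker` write `orderOf a = p ^ e * m` with `m.Coprime p`
(`Nat.exists_eq_pow_mul_and_not_dvd`, `orderOf_pos` since `↥A` is finite); `a ^ (p ^ e)` is in `f.ker`, its order is `m`
(`orderOf_pow_of_dvd`/`orderOf_pow'`), so `hker` (note `orderOf` of the coercion to `MulAut R` equals `orderOf` in `↥A`: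
`Subgroup.orderOf_coe`) gives `a ^ (p ^ e) = 1`. `PLengthLE p k ↥f.range` from `hB` by `plengthLE_subgroup f.range hB`.
Conclude with `plengthLE_of_ker f _ _` (piece S56-KER, by statement). `Finite (MulAut ↥R)`: instance search should find it
(`inferInstance`), else build it as in `Lib/CSE/CSEPow.lean` (`Finite.of_injective (fun f => (f : ↥R → ↥R))`).
Aux names: prefix `s56restr_`.
-/

set_option autoImplicit false

namespace Cfsg.Agent.Helper4.S56

open Cfsg Cfsg.Agent.Helper19.PLen

theorem plengthLE_of_restrict {Ω : Type*} [Group Ω] {p : ℕ} [Fact p.Prime] {Q R : Subgroup Ω}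
    [Finite ↥R] (hQR : Q ≤ R) (A : Subgroup (MulAut ↥R)) (B : Subgroup (MulAut ↥Q))
    (hres : ∀ α ∈ A, ∃ β ∈ B, ∀ x : ↥Q,
      ((β x : ↥Q) : Ω) = ((α (Subgroup.inclusion hQR x) : ↥R) : Ω))
    (hker : ∀ α ∈ A, (∀ x : ↥Q, α (Subgroup.inclusion hQR x) = Subgroup.inclusion hQR x) →
      (orderOf α).Coprime p → α = 1)
    {k : ℕ} (hB : PLengthLE p k ↥B) : PLengthLE p (1 + k) ↥A := by
  classical
  have hp : p.Prime := Fact.out
  haveI hQfin : Finite ↥Q :=
    Finite.of_injective (Subgroup.inclusion hQR) (Subgroup.inclusion_injective hQR)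
  haveI hAutR : Finite (MulAut ↥R) := inferInstance
  haveI hAutQ : Finite (MulAut ↥Q) := inferInstance
  -- uniqueness of the restriction
  have huniq : ∀ β₁ β₂ : MulAut ↥Q,
      (∀ x : ↥Q, ((β₁ x : ↥Q) : Ω) = ((β₂ x : ↥Q) : Ω)) → β₁ = β₂ := by
    intro β₁ β₂ h
    apply MulEquiv.ext
    intro x
    exact Subtype.ext (h x)
  choose β hβB hβv using fun a : ↥A => hres a.1 a.2
  let f : ↥A →* ↥B :=
    { toFun := fun a => ⟨β a, hβB a⟩
      map_one' := by
        apply Subtype.ext
        apply huniq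
        intro x
        rw [hβv]
        rfl
      map_mul' := by
        intro a b
        apply Subtype.ext
        apply huniq
        intro x
        show ((β (a * b) x : ↥Q) : Ω) = ((β a (β b x) : ↥Q) : Ω)
        rw [hβv (a * b) x, hβv a (β b x)]
        have e : (b : MulAut ↥R) (Subgroup.inclusion hQR x) = Subgroup.inclusion hQR (β b x) :=
          Subtype.ext (hβv b x).symm
        show (((a : MulAut ↥R) ((b : MulAut ↥R) (Subgroup.inclusion hQR x)) : ↥R) : Ω) = _
        rw [e] }
  -- elements of the kernel fix `Q` pointwise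
  have hfix : ∀ a : ↥A, a ∈ f.ker →
      ∀ x : ↥Q, (a : MulAut ↥R) (Subgroup.inclusion hQR x) = Subgroup.inclusion hQR x := by
    intro a ha x
    have h1 : f a = 1 := MonoidHom.mem_ker.mp ha
    have h2 : β a = 1 := congrArg Subtype.val h1
    apply Subtype.ext
    rw [← hβv a x, h2]
    rfl
  have hkerp : IsPGroup p f.ker := by
    rintro ⟨a, ha⟩
    have hn : orderOf a ≠ 0 := (orderOf_pos a).ne'
    obtain ⟨e, m, hm, hnm⟩ := Nat.exists_eq_pow_mul_and_not_dvd hn p hp.ne_one
    refine ⟨e, ?_⟩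
    apply Subtype.ext
    show a ^ p ^ e = 1
    have hc : a ^ p ^ e ∈ f.ker := Subgroup.pow_mem _ ha _
    have hcm : (a ^ p ^ e) ^ m = 1 := by
      rw [← pow_mul, ← hnm]
      exact pow_orderOf_eq_one a
    have hdvd : orderOf (a ^ p ^ e) ∣ m := orderOf_dvd_of_pow_eq_one hcm
    have hcop : (orderOf (a ^ p ^ e)).Coprime p :=
      Nat.Coprime.coprime_dvd_left hdvd ((Nat.Prime.coprime_iff_not_dvd hp).mpr hm).symm
    have hcop' : (orderOf ((a ^ p ^ e : ↥A) : MulAut ↥R)).Coprime p := by
      rw [Subgroup.orderOf_coe]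
      exact hcop
    have h1 := hker ((a ^ p ^ e : ↥A) : MulAut ↥R) (a ^ p ^ e : ↥A).2 (hfix _ hc) hcop'
    exact Subtype.ext h1
  have hrange : PLengthLE p k ↥f.range := plengthLE_subgroup f.range hB
  exact plengthLE_of_ker f hkerp hrange

end Cfsg.Agent.Helper4.S56
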