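import Mathlib
import Cfsg.Agent.Lib.S56.S56Defs
import Cfsg.Agent.Lib.Helper25.Fusion

/-!
# S5156 piece S56-STAR: `R ≤ R* ≤ T` for `R* = starOf F R`, `R ≤ T`, `T` strongly closed in `F`
RECIPE. `le_starOf`: `Helper25.subtype_mem F hRS : R.subtype ∈ F.Hom R`; `x ∈ R` is `R.subtype ⟨x,_⟩`; `Subgroup.subset_closure`.
`starOf_le`: `Subgroup.closure_le`; a generator `φ r` with `φ ∈ F.Hom R` lies in `T` by `hT.2 R hRT φ hφ r`.
Aux names: prefix `s56star_`.
-/

set_option autoImplicit false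

namespace Cfsg.Agent.Helper4.S56

open Cfsg Cfsg.FusionSystem Cfsg.Agent.Helper25

variable {Ω : Type*} [Group Ω] {S : Subgroup Ω}

theorem le_starOf (F : FusionSystem S) {R : Subgroup Ω} (hRS : R ≤ S) : R ≤ starOf F R := by
  intro x hx
  exact Subgroup.subset_closure ⟨R.subtype, subtype_mem F hRS, ⟨x, hx⟩, rfl⟩

theorem starOf_le (F : FusionSystem S) {R T : Subgroup Ω} (hT : F.StronglyClosed T) (hRT : R ≤ T) :
    starOf F R ≤ T := by
  unfold starOf
  rw [Subgroup.closure_le]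
  rintro _ ⟨φ, hφ, r, rfl⟩
  exact hT.2 R hRT φ hφ r

end Cfsg.Agent.Helper4.S56
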