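import Mathlib
import Cfsg.Agent.Lib.S56.S56Defs
import Cfsg.Agent.Lib.S56.S56Star
import Cfsg.Agent.Lib.S56.S56Centric
import Cfsg.Agent.Lib.S56.S56AutRestr
import Cfsg.Agent.Lib.S56.S56Restr
import Cfsg.Agent.Lib.S56.S56ResPP
import Cfsg.Agent.Lib.S56.S56Cop
import Cfsg.Agent.Lib.Helper3.SubConstrained
import Cfsg.Agent.Lib.Helper25.FusionNormal
import Cfsg.Agent.Lib.Helper25.FusionNormal2
import Cfsg.Agent.Lib.Helper25.FusionNormal3
import Cfsg.Agent.Lib.OLR.OLRSelf
import Cfsg.Agent.S5141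
import Cfsg.Agent.S5291

/-!
# S5156 (assembly, helper4): lifting `PSL` from `O^{p'}(F)` to `F`
-/

set_option autoImplicit false

namespace Cfsg.Agent.Helper4.S56

open Cfsg Cfsg.FusionSystem Cfsg.Agent.Helper25

variable {Ω : Type*} [Group Ω] {S : Subgroup Ω}

/-- the kernel hypothesis of `plengthLE_of_restrict` for a strongly closed `Q` containing its centralizer in `S` -/
theorem hker_of_centric (p : ℕ) [Fact p.Prime] (hS : IsPGroup p S) (F : FusionSystem S)
    {Q R : Subgroup Ω} (hQ : F.StronglyClosed Q) (hQR : Q ≤ R) (hRS : R ≤ S)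
    (hcen : centralizerIn S Q ≤ Q) (α : MulAut ↥R)
    (hfix : ∀ x : ↥Q, α (Subgroup.inclusion hQR x) = Subgroup.inclusion hQR x)
    (hord : (orderOf α).Coprime p) : α = 1 := by
  refine aut_eq_one_of_coprime (S := S) (U := S) hS hRS hQR ?_ ?_ α ?_ ?_ hord
  · intro x hx q hq
    exact conj_mem_of_stronglyClosed F hQ (hRS hx) hq
  · intro z hzS _ hz
    apply hcen
    rw [mem_centralizerIn]
    exact ⟨hzS, fun q hq => (hz q hq).symm⟩
  · intro x hx
    exact hfix ⟨(x : Ω), hx⟩
  · intro x
    exact S.mul_mem (S.inv_mem (hRS x.2)) (hRS (α x).2)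

theorem psl_of_pPrimeResidual [Finite S] (p : ℕ) [Fact p.Prime] (hS : IsPGroup p S)
    (F : FusionSystem S) (hF : F.IsSaturated p) (E : FusionSystem S) (hE : F.IsPPrimeResidual p E)
    (h : PSL p E) : PSL p F := by
  obtain ⟨hEc, k, hk⟩ := h
  have hFw : F.IsWeaklyNormalIn F p := ⟨hF, hF, Cfsg.Agent.Helper3.OLR.isInvariantIn_self F⟩
  have hEn : E.IsNormalIn F p := Cfsg.Agent.S5141.result p hS F hF F hFw E hE
  have hRn : E.IsNormal E.core := isNormal_core E
  have hRc : E.IsCentric E.core := Cfsg.Agent.Helper3.SubConstrained.core_isCentric E hEc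
  have hRS : E.core ≤ S := hRn.1
  have hRsc : E.StronglyClosed E.core := stronglyClosed_of_isNormal E hRn
  have hQn : F.IsNormal (starOf F E.core) :=
    Cfsg.Agent.S5291.result p hS F hF E hEn.1 E.core hRn
  have hRQ : E.core ≤ starOf F E.core := le_starOf F hRS
  have hQS : starOf F E.core ≤ S := hQn.1
  have hQsc : F.StronglyClosed (starOf F E.core) := stronglyClosed_of_isNormal F hQn
  have hcenR : centralizerIn S E.core ≤ E.core := hRc.2 E.core (isConj_refl E hRS)
  have hcenQ : centralizerIn S (starOf F E.core) ≤ starOf F E.core := by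
    intro x hx
    apply hRQ
    apply hcenR
    rw [mem_centralizerIn] at hx ⊢
    exact ⟨hx.1, fun q hq => hx.2 q (hRQ hq)⟩
  have hQc : F.IsCentric (starOf F E.core) := isCentric_of_isNormal F hQn hcenQ
  refine ⟨⟨hF, starOf F E.core, hQn, hQc⟩, ?_⟩
  have hfQ : Finite ↥(starOf F E.core) := finite_of_le_finite hQS
  have hcoreS : F.core ≤ S := (isNormal_core F).1
  have hfc : Finite ↥F.core := finite_of_le_finite hcoreS
  have hfR : Finite ↥E.core := finite_of_le_finite hRS
  have h1 : PLengthLE p (1 + k) ↥(E.autGroup (starOf F E.core)) :=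
    plengthLE_of_restrict hRQ (E.autGroup (starOf F E.core)) (E.autGroup E.core)
      (exists_restrict_aut E hRsc hRQ hQS)
      (fun α _ => hker_of_centric p hS E hRsc hRQ hQS hcenR α) hk
  have h2 : PLengthLE p (1 + k) ↥(F.autGroup (starOf F E.core)) :=
    plengthLE_of_pPrimeRes_le (F.autGroup (starOf F E.core)) (E.autGroup (starOf F E.core))
      (hE.2.1.2 (starOf F E.core) hQS) h1
  have hQcore : starOf F E.core ≤ F.core := le_sSup hQn
  exact ⟨1 + (1 + k), plengthLE_of_restrict hQcore (F.autGroup F.core)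
    (F.autGroup (starOf F E.core)) (exists_restrict_aut F hQsc hQcore hcoreS)
    (fun α _ => hker_of_centric p hS F hQsc hQcore hcoreS hcenQ α) h2⟩

end Cfsg.Agent.Helper4.S56
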