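import Mathlib
import Cfsg.Prelude.Def_Local
import Cfsg.Prelude.Def_Transfer
import Cfsg.Agent.Lib.Helper19.PLength
import Cfsg.Agent.Lib.Helper22.PResidual

/-!
# S5156 piece S56-RESP: if `O^p(A) ≤ N` and `N` has `p`-length `≤ k` then `A` has `p`-length `≤ k + 1`
(`A`, `N` subgroups of a common group `M`; `O^p(A) = Cfsg.pResidual p ↥A` pushed to `M`.)
RECIPE. `N₀ := Cfsg.pResidual p ↥A`, normal in `↥A` (`Helper22.pResidual_normal`, file `Lib/Helper22/PResidual.lean`; check namespace),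
`A ⧸ N₀` is a `p`-group (`isPGroup_quotient_pResidual`) so `PLengthLE p 1 (↥A ⧸ N₀)` (`plengthLE_one_of_isPGroup`).
The map `j : ↥N₀ →* ↥N`, `x ↦ ⟨(x : ↥A), h ⟨x, x.2, rfl⟩⟩` is injective, so `↥N₀ ≃* ↥j.range` (`MonoidHom.ofInjective`),
`plengthLE_subgroup j.range hN` and `plengthLE_of_mulEquiv` give `PLengthLE p k ↥N₀`. Then `plengthLE_add N₀ _ _ : PLengthLE p (k+1) ↥A`.
(`[Finite ↥N]` is assumed.) Aux names: prefix `s56resp_`.
-/

set_option autoImplicit false

namespace Cfsg.Agent.Helper4.S56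

open Cfsg Cfsg.Agent.Helper19.PLen

theorem plengthLE_of_pResidual_le {M : Type*} [Group M] {p : ℕ} [Fact p.Prime] (A N : Subgroup M)
    [Finite ↥A] [Finite ↥N] (h : (Cfsg.pResidual p ↥A).map A.subtype ≤ N) {k : ℕ}
    (hN : PLengthLE p k ↥N) : PLengthLE p (k + 1) ↥A := by
  haveI hn : (Cfsg.pResidual p ↥A).Normal := Cfsg.Agent.Helper22.pResidual_normal
  have hQ : PLengthLE p 1 (↥A ⧸ Cfsg.pResidual p ↥A) :=
    plengthLE_one_of_isPGroup Cfsg.Agent.Helper22.isPGroup_quotient_pResidual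
  let j : ↥(Cfsg.pResidual p ↥A) →* ↥N :=
    { toFun := fun x => ⟨((x : ↥A) : M), h ⟨x.1, x.2, rfl⟩⟩
      map_one' := Subtype.ext rfl
      map_mul' := fun _ _ => Subtype.ext rfl }
  have hj : Function.Injective j := by
    intro a b hab
    have h1 : ((a : ↥A) : M) = ((b : ↥A) : M) := congrArg (fun z : ↥N => (z : M)) hab
    exact Subtype.ext (Subtype.ext h1)
  have h1 : PLengthLE p k ↥j.range := plengthLE_subgroup j.range hN
  have h2 : PLengthLE p k ↥(Cfsg.pResidual p ↥A) :=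
    plengthLE_of_mulEquiv (MonoidHom.ofInjective hj).symm h1
  exact plengthLE_add (Cfsg.pResidual p ↥A) h2 hQ

end Cfsg.Agent.Helper4.S56
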