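import Mathlib
import Cfsg.Agent.Lib.S56.S56AP
import Cfsg.Agent.Lib.Helper25.Fusion
import Cfsg.Agent.Lib.Helper25.FusionAut
import Cfsg.Agent.Lib.Helper25.FusionAlperin

/-!
# S5156 piece S56-NCP: an element of `C_S(Q)` normalizing a centric radical `P ≥ Q` lies in `P`
RECIPE. `α := P.normalizerMonoidHom ⟨c, hcN⟩ : MulAut ↥P` (values `c * x * c⁻¹`, by `rfl`). `hcS : c ∈ S := hc.1`.
`α ∈ E.autGroup P`: `autInducedBy_le_autGroup E hPS ((mem_autInducedBy_iff _).2 ⟨c, hcS, fun x => rfl⟩)` (as in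
`Lib/Helper25/FusionPrimeIndex2.lean`, `normalizerMonoidHom_mem_OpPrime`). `α` fixes `Q` pointwise: `c` centralizes `Q`
(`(mem_centralizerIn.mp hc).2 q hq : q * c = c * q`), so `c * q * c⁻¹ = q` (`Subtype.ext`).
`exists_inner_of_fix` (S56-AP, by statement) gives `y` with `α = MulAut.conj y`, i.e. `α ∈ Inn ↥P` (`⟨y, hy.symm⟩`).
Then `Helper25.mem_of_induces_inner hPc.1 (hPc.2 P (isConj_refl E hPc.1)) hInn hcS (fun x => rfl)`
(`Lib/Helper25/FusionAlperin.lean`). Aux names: prefix `s56ncp_`.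
-/

set_option autoImplicit false

namespace Cfsg.Agent.Helper4.S56

open Cfsg Cfsg.FusionSystem Cfsg.Agent.Helper25

variable {Ω : Type*} [Group Ω] {S : Subgroup Ω}

theorem mem_of_normalizes [Finite S] (p : ℕ) [Fact p.Prime] (hS : IsPGroup p S) (E : FusionSystem S)
    {Q P : Subgroup Ω} (hQP : Q ≤ P) (hQ : E.StronglyClosed Q)
    (hcen : ∀ z ∈ E.hyperfocalSubgroup p, (∀ q ∈ Q, z * q = q * z) → z ∈ Q)
    (hPc : E.IsCentric P) (hrad : E.IsRadical p P)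
    {c : Ω} (hc : c ∈ centralizerIn S Q) (hcN : c ∈ Subgroup.normalizer (P : Set Ω)) : c ∈ P := by
  have hPS : P ≤ S := hPc.1
  have hcS : c ∈ S := hc.1
  have hα : P.normalizerMonoidHom ⟨c, hcN⟩ ∈ E.autGroup P :=
    autInducedBy_le_autGroup E hPS ((mem_autInducedBy_iff _).2 ⟨c, hcS, fun x => rfl⟩)
  have hfix : ∀ x : ↥P, (x : Ω) ∈ Q → (P.normalizerMonoidHom ⟨c, hcN⟩) x = x := by
    intro x hx
    apply Subtype.ext
    show c * (x : Ω) * c⁻¹ = (x : Ω)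
    have h1 := (mem_centralizerIn.mp hc).2 (x : Ω) hx
    rw [← h1, mul_inv_cancel_right]
  obtain ⟨y, hy⟩ := exists_inner_of_fix p hS E hQP hQ hcen hrad _ hα hfix
  have hInn : P.normalizerMonoidHom ⟨c, hcN⟩ ∈ Inn ↥P := ⟨y, hy.symm⟩
  exact mem_of_induces_inner hPS (hPc.2 P (isConj_refl E hPS)) hInn hcS (fun x => rfl)

end Cfsg.Agent.Helper4.S56
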