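import Mathlib
import Cfsg.Agent.Lib.S56.S56NCP
import Cfsg.Agent.Lib.Helper25.FusionNormal2
import Cfsg.Agent.Lib.Helper25.FusionNormal3
import Cfsg.Agent.S5086
import Cfsg.Agent.S5255

/-!
# S5156 (assembly, helper4): `Q ⊔ C_S(Q)` is normal in `E` when `Q ⊴ E` and `C_{hyp(E)}(Q) ≤ Q`
-/

set_option autoImplicit false

namespace Cfsg.Agent.Helper4.S56

open Cfsg Cfsg.FusionSystem Cfsg.Agent.Helper25

variable {Ω : Type*} [Group Ω] {S : Subgroup Ω}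

theorem isNormal_sup_cen [Finite S] (p : ℕ) [Fact p.Prime] (hS : IsPGroup p S) (E : FusionSystem S)
    (hE : E.IsSaturated p) {Q : Subgroup Ω} (hQ : E.IsNormal Q)
    (hcen : ∀ z ∈ E.hyperfocalSubgroup p, (∀ q ∈ Q, z * q = q * z) → z ∈ Q) :
    E.IsNormal (Q ⊔ centralizerIn S Q) := by
  have hQsc := stronglyClosed_of_isNormal E hQ
  rw [Cfsg.Agent.S5086.result p hS E hE]
  refine ⟨Cfsg.Agent.S5255.result p hS E hE Q hQsc, fun P hPc hPr => ?_⟩
  have hQP : Q ≤ P := ((Cfsg.Agent.S5086.result p hS E hE Q).mp hQ).2 P hPc hPr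
  refine sup_le hQP ?_
  by_contra hCP
  have hCn : ∀ g ∈ S, ∀ v ∈ centralizerIn S Q, g⁻¹ * v * g ∈ centralizerIn S Q := by
    intro g hg v hv
    rw [mem_centralizerIn] at hv ⊢
    refine ⟨S.mul_mem (S.mul_mem (S.inv_mem hg) hv.1) hg, fun q hq => ?_⟩
    have hq' : g * q * g⁻¹ ∈ Q := conj_mem_of_stronglyClosed E hQsc hg hq
    have h1 := hv.2 _ hq'
    have e1 : q * (g⁻¹ * v * g) = g⁻¹ * ((g * q * g⁻¹) * v) * g := by group
    have e2 : g⁻¹ * v * g * q = g⁻¹ * (v * (g * q * g⁻¹)) * g := by group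
    rw [e1, e2, h1]
  obtain ⟨x, hxC, hxN, hxP⟩ :=
    exists_mem_normalizer_not_mem_of_not_le hS hPc.1 centralizerIn_le hCn hCP
  exact hxP (mem_of_normalizes p hS E hQP hQsc hcen hPc hPr hxC hxN)

end Cfsg.Agent.Helper4.S56
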