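import Mathlib
import Cfsg.Agent.Lib.S56.S56Defs
import Cfsg.Agent.Lib.S56.S56Star
import Cfsg.Agent.Lib.S56.S56Centric
import Cfsg.Agent.Lib.S56.S56AutRestr
import Cfsg.Agent.Lib.S56.S56Restr
import Cfsg.Agent.Lib.S56.S56ResP
import Cfsg.Agent.Lib.S56.S56APC
import Cfsg.Agent.Lib.S56.S56XNorm
import Cfsg.Agent.Lib.S56.S56LiftPP
import Cfsg.Agent.Lib.Helper3.SubConstrained
import Cfsg.Agent.Lib.Helper25.FusionNormal
import Cfsg.Agent.Lib.Helper25.FusionNormal2
import Cfsg.Agent.Lib.Helper25.FusionHyp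
import Cfsg.Agent.Lib.Helper25.FusionSolv
import Cfsg.Agent.S5120
import Cfsg.Agent.S5124
import Cfsg.Agent.S5291

/-!
# S5156 (assembly, helper4): lifting `PSL` from `O^p(E)` to `E`
-/

set_option autoImplicit false

namespace Cfsg.Agent.Helper4.S56

open Cfsg Cfsg.FusionSystem Cfsg.Agent.Helper25

variable {Ω : Type*} [Group Ω] {S : Subgroup Ω}

theorem psl_of_pResidual [Finite S] (p : ℕ) [Fact p.Prime] (hS : IsPGroup p S)
    (E : FusionSystem S) (hE : E.IsSaturated p) (D : FusionSystem (E.hyperfocalSubgroup p))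
    (hD : E.IsPResidual p D) (h : PSL p D) : PSL p E := by
  obtain ⟨hDc, k, hk⟩ := h
  have hUS : E.hyperfocalSubgroup p ≤ S := hyperfocalSubgroup_le E p
  have hUsc : E.StronglyClosed (E.hyperfocalSubgroup p) := Cfsg.Agent.S5124.result p hS E hE
  have hUn : ((E.hyperfocalSubgroup p).subgroupOf S).Normal :=
    Cfsg.Agent.Helper25.Solv.normal_of_stronglyClosed hUsc
  have hDn : D.IsNormalIn E p :=
    Cfsg.Agent.S5120.result p hS E hE (E.hyperfocalSubgroup p) hUS hUn le_rfl D hD.1 hD.2
  have hfU : Finite ↥(E.hyperfocalSubgroup p) := finite_of_le_finite hUS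
  have hU : IsPGroup p ↥(E.hyperfocalSubgroup p) := hS.to_le hUS
  have hRn : D.IsNormal D.core := isNormal_core D
  have hRc : D.IsCentric D.core := Cfsg.Agent.Helper3.SubConstrained.core_isCentric D hDc
  have hRU : D.core ≤ E.hyperfocalSubgroup p := hRn.1
  have hRsc : D.StronglyClosed D.core := stronglyClosed_of_isNormal D hRn
  have hQn : E.IsNormal (starOf E D.core) :=
    Cfsg.Agent.S5291.result p hS E hE D hDn.1 D.core hRn
  have hRQ : D.core ≤ starOf E D.core := le_starOf E (hRU.trans hUS)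
  have hQU : starOf E D.core ≤ E.hyperfocalSubgroup p := starOf_le E hUsc hRU
  have hQS : starOf E D.core ≤ S := hQn.1
  have hQsc : E.StronglyClosed (starOf E D.core) := stronglyClosed_of_isNormal E hQn
  have hcenR : centralizerIn (E.hyperfocalSubgroup p) D.core ≤ D.core :=
    hRc.2 D.core (isConj_refl D hRU)
  have hcenQ : ∀ z ∈ E.hyperfocalSubgroup p, (∀ q ∈ starOf E D.core, z * q = q * z) →
      z ∈ starOf E D.core := by
    intro z hz hcomm
    apply hRQ
    apply hcenR
    rw [mem_centralizerIn]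
    exact ⟨hz, fun q hq => (hcomm q (hRQ hq)).symm⟩
  have hXn : E.IsNormal (starOf E D.core ⊔ centralizerIn S (starOf E D.core)) :=
    isNormal_sup_cen p hS E hE hQn hcenQ
  have hXc : E.IsCentric (starOf E D.core ⊔ centralizerIn S (starOf E D.core)) := by
    apply isCentric_of_isNormal E hXn
    intro x hx
    apply le_sup_right (a := starOf E D.core)
    rw [mem_centralizerIn] at hx ⊢
    exact ⟨hx.1, fun q hq => hx.2 q (le_sup_left (b := centralizerIn S (starOf E D.core)) hq)⟩
  refine ⟨⟨hE, _, hXn, hXc⟩, ?_⟩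
  have hfQ : Finite ↥(starOf E D.core) := finite_of_le_finite hQS
  have hcoreS : E.core ≤ S := (isNormal_core E).1
  have hfc : Finite ↥E.core := finite_of_le_finite hcoreS
  have h1 : PLengthLE p (1 + k) ↥(D.autGroup (starOf E D.core)) :=
    plengthLE_of_restrict hRQ (D.autGroup (starOf E D.core)) (D.autGroup D.core)
      (exists_restrict_aut D hRsc hRQ hQU)
      (fun α _ => hker_of_centric p hU D hRsc hRQ hQU hcenR α) hk
  have h2 : PLengthLE p (1 + k + 1) ↥(E.autGroup (starOf E D.core)) :=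
    plengthLE_of_pResidual_le (E.autGroup (starOf E D.core)) (D.autGroup (starOf E D.core))
      (hD.2.2.2 (starOf E D.core) hQU) h1
  have hQcore : starOf E D.core ≤ E.core := le_sSup hQn
  refine ⟨1 + (1 + k + 1), plengthLE_of_restrict hQcore (E.autGroup E.core)
    (E.autGroup (starOf E D.core)) (exists_restrict_aut E hQsc hQcore hcoreS) ?_ h2⟩
  intro α hα hfix hord
  refine fix_coprime_eq_one p hS E hcoreS hQcore hQsc hcenQ α hα ?_ hord
  intro x hx
  exact hfix ⟨(x : Ω), hx⟩

end Cfsg.Agent.Helper4.S56
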