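import Mathlib
import Cfsg.Agent.Lib.S56.S56Defs
import Cfsg.Agent.Lib.S56.S56Centric
import Cfsg.Agent.Lib.Helper25.FusionNormal
import Cfsg.Agent.Lib.Helper19.PLength

/-!
# S5156 piece S56-TRIV: a saturated system over the trivial group satisfies `PSL`
RECIPE. `hn := Helper25.isNormal_core F : F.IsNormal F.core` (`Lib/Helper25/FusionNormal.lean`). Centric:
`isCentric_of_isNormal F hn hcen` (S56-CENTRIC, by statement) with `hcen : centralizerIn S F.core ≤ F.core` from
`centralizerIn_le : _ ≤ S` and `S = ⊥` (`hS ▸ bot_le`, or `le_trans centralizerIn_le (by rw [hS]; exact bot_le)`).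
So `F.IsConstrained p := ⟨hF, F.core, hn, _⟩`. `p`-length: `k := 0`, `Helper19.PLen.plengthLE_zero_of_coprime`: `Nat.card ↥(F.autGroup F.core) = 1`
because `F.core ≤ S = ⊥` makes `↥F.core` a subsingleton (`Subgroup.subsingleton_iff`/`Subsingleton` of `↥(⊥)`), hence `MulAut ↥F.core` and its
subgroup are subsingletons (`MulEquiv.ext`, `Subsingleton.elim`), `Nat.card_unique`/`Nat.card_of_subsingleton`; `Nat.coprime_one_left`.
Aux names: prefix `s56triv_`.
-/

set_option autoImplicit false

namespace Cfsg.Agent.Helper4.S56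

open Cfsg Cfsg.FusionSystem Cfsg.Agent.Helper25

variable {Ω : Type*} [Group Ω] {S : Subgroup Ω}

theorem psl_of_bot [Finite S] (p : ℕ) [Fact p.Prime] (F : FusionSystem S) (hF : F.IsSaturated p)
    (hS : S = ⊥) : PSL p F := by
  subst hS
  have hn : F.IsNormal F.core := Cfsg.Agent.Helper25.isNormal_core F
  have hcore : F.core ≤ ⊥ := hn.1
  have hcen : centralizerIn (⊥ : Subgroup Ω) F.core ≤ F.core := fun x hx => by
    have hx1 : x ∈ (⊥ : Subgroup Ω) := hx.1
    rw [Subgroup.mem_bot] at hx1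
    rw [hx1]
    exact F.core.one_mem
  refine ⟨⟨hF, F.core, hn, isCentric_of_isNormal F hn hcen⟩, 0, ?_⟩
  haveI : Subsingleton ↥F.core := ⟨fun a b => Subtype.ext (by
    have ha := hcore a.2
    have hb := hcore b.2
    rw [Subgroup.mem_bot] at ha hb
    rw [ha, hb])⟩
  haveI : Subsingleton (MulAut ↥F.core) :=
    ⟨fun a b => MulEquiv.ext (fun x => Subsingleton.elim _ _)⟩
  haveI : Subsingleton ↥(F.autGroup F.core) := ⟨fun a b => Subtype.ext (Subsingleton.elim _ _)⟩
  haveI : Finite ↥(F.autGroup F.core) := Finite.of_subsingleton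
  apply Cfsg.Agent.Helper19.PLen.plengthLE_zero_of_coprime
  rw [Nat.card_of_subsingleton (1 : ↥(F.autGroup F.core))]
  exact Nat.coprime_one_left p

end Cfsg.Agent.Helper4.S56
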