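import Mathlib
import Cfsg.Agent.Lib.S56.S56Defs
import Cfsg.Agent.Lib.S56.S56Triv
import Cfsg.Agent.Lib.S56.S56LiftP
import Cfsg.Agent.Lib.S56.S56LiftPP
import Cfsg.Agent.Lib.Helper25.FusionHyp

/-!
# S5156 (assembly, helper4): a terminating residual series gives `PSL`
-/

set_option autoImplicit false

namespace Cfsg.Agent.Helper4.S56

open Cfsg Cfsg.FusionSystem Cfsg.Agent.Helper25

variable {Ω : Type*} [Group Ω]

theorem psl_of_terminating {p : ℕ} {S : Subgroup Ω} {F : FusionSystem S}
    (h : F.HasTerminatingResidualSeries p) :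
    Fact p.Prime → Finite S → IsPGroup p S → F.IsSaturated p → PSL p F := by
  induction h with
  | trivial F p hS =>
    intro hp hfin _ hF
    exact psl_of_bot p F hF hS
  | step F E p D hE hD _ ih =>
    intro hp hfin hS hF
    have hUS : E.hyperfocalSubgroup p ≤ _ := hyperfocalSubgroup_le E p
    have hfU : Finite ↥(E.hyperfocalSubgroup p) := finite_of_le_finite hUS
    have hU : IsPGroup p ↥(E.hyperfocalSubgroup p) := hS.to_le hUS
    have hD' : PSL p D := ih hp hfU hU hD.1
    have hE' : PSL p E := psl_of_pResidual p hS E hE.1 D hD hD'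
    exact psl_of_pPrimeResidual p hS F hF E hE hE'

end Cfsg.Agent.Helper4.S56
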