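import Mathlib
import Cfsg.Prelude.Def_Local
import Cfsg.Agent.Lib.Helper19.PLength

/-!
# S5156 piece S56-PLB: finite `p`-length implies `p`-solvable (the Prelude's `IsPSolvable`)
RECIPE. `h : (upperPSeries p G (2*k+1)).1 = ⊤` (unfold `PLengthLE`). Use `n := 2*k+1` and
`H i := (upperPSeries p G i).1` (`i : Fin (n+1)`, via `i.val`). `H 0 = ⊥`: `Helper19.PLen.upperPSeries_zero`;
`H (Fin.last n) = ⊤`: `h`; `Monotone H`: `(Helper19.PLen.upperPSeries_isPChain p).monotone` composed with `Fin.val` monotone
(`Fin.monotone_iff_le_succ` may help); normality: instance `upperPSeries_normal`; factors: for `i : Fin n`,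
`(upperPSeries_isPChain p).even i.val` (index prime to `p`, the right disjunct) or `.odd` (`p`-power, left disjunct),
by cases on `Even i.val`; `i.castSucc.val = i.val`, `i.succ.val = i.val + 1` (`rfl` / `Fin.val_succ`).
Aux names: prefix `s56plb_`.
-/

set_option autoImplicit false

namespace Cfsg.Agent.Helper4.S56

open Cfsg Cfsg.Agent.Helper19.PLen

theorem isPSolvable_of_plengthLE {G : Type*} [Group G] [Finite G] {p : ℕ} [Fact p.Prime] {k : ℕ}
    (h : PLengthLE p k G) : IsPSolvable p G := by
  have hch := upperPSeries_isPChain (G := G) p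
  refine ⟨2 * k + 1, fun i => (upperPSeries p G i.1).1, ?_, ?_, ?_, ?_, ?_⟩
  · exact upperPSeries_zero p
  · exact h
  · intro i j hij
    exact hch.monotone hij
  · intro i
    exact hch.normal i.1
  · intro i
    by_cases hi : Even i.1
    · right
      exact hch.even i.1 hi
    · left
      exact hch.odd i.1 hi

end Cfsg.Agent.Helper4.S56
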